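import Groth.Agent.Sga4h.EulerSpec
import Groth.Agent.Sga4h.ModRestr
import Groth.Agent.Sga4h.LocCohLES

/-!
# Local cohomology sheaves of the abelian sheaf underlying a sheaf of modules

`j : U ⟶ X` an open immersion, `F` a sheaf of `Λ`-modules on `X`, `η : F ⟶ j_* j^* F` the unit: the local
cohomology sheaves of the underlying abelian sheaf are `ker η`, `coker η`, `R^{q+1} j_* j^* F`.
-/

set_option autoImplicit false
universe u
open CategoryTheory CategoryTheory.Limits AlgebraicGeometry Opposite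

namespace Groth.Agent.Sga5.H177.HYMod

open Groth.Agent.Sga4h.LocCohLES Groth.Agent.Sga4h.ModRestr Groth.Agent.Etrest.ModAb
  Groth.Agent.Sga4h.EtaleRes

variable {Λ : Type (u + 1)} [CommRing Λ] {X U : Scheme.{u}} (j : U ⟶ X) [IsOpenImmersion j]
  (F : EtModW.Mod Λ X)

attribute [local instance] jCont

/-- The underlying abelian sheaf of the restriction is the inverse image of the underlying abelian sheaf. -/
noncomputable def pullAb : (EtCoh.pull j).obj ((ab Λ X).obj F) ≅ (ab Λ U).obj ((res Λ j).obj F) :=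
  (pullIsoRestr j).app ((ab Λ X).obj F)

theorem ab_map_unit : (ab Λ X).map ((resPushAdj Λ j).unit.app F) =
    (restrPushAdj j).unit.app ((ab Λ X).obj F) := by
  apply Sheaf.hom_ext
  rfl

/-- `j_* j^*` commutes with passing to the underlying abelian sheaf. -/
noncomputable def pushPullAb : (EtCoh.push j).obj ((EtCoh.pull j).obj ((ab Λ X).obj F)) ≅
    (ab Λ X).obj ((res Λ j ⋙ EtModW.push Λ j).obj F) :=
  (EtCoh.push j).mapIso (pullAb j F)

theorem unit_comp : EtDual.unitApp j ((ab Λ X).obj F) ≫ (pushPullAb j F).hom =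
    (ab Λ X).map ((resPushAdj Λ j).unit.app F) := by
  rw [ab_map_unit]
  exact unit_pullIsoRestr j ((ab Λ X).obj F)

/-- `ℋ^0` is the kernel of the unit. -/
noncomputable def isoZero : (EtDual.locCoh j 0).obj ((ab Λ X).obj F) ≅
    (ab Λ X).obj (kernel ((resPushAdj Λ j).unit.app F)) :=
  (locCohZeroIso j).app ((ab Λ X).obj F) ≪≫
    kernel.mapIso (EtDual.unitApp j ((ab Λ X).obj F)) ((ab Λ X).map ((resPushAdj Λ j).unit.app F))
      (Iso.refl _) (pushPullAb j F) ((unit_comp j F).trans (Category.id_comp _).symm) ≪≫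
    (PreservesKernel.iso (ab Λ X) _).symm

/-- `ℋ^1` is the cokernel of the unit. -/
noncomputable def isoOne : (EtDual.locCoh j 1).obj ((ab Λ X).obj F) ≅
    (ab Λ X).obj (cokernel ((resPushAdj Λ j).unit.app F)) :=
  (exact₀ j ((ab Λ X).obj F)).gIsCokernel.coconePointUniqueUpToIso
      (colimit.isColimit (parallelPair (EtDual.unitApp j ((ab Λ X).obj F)) 0)) ≪≫
    cokernel.mapIso (EtDual.unitApp j ((ab Λ X).obj F)) ((ab Λ X).map ((resPushAdj Λ j).unit.app F))
      (Iso.refl _) (pushPullAb j F) ((unit_comp j F).trans (Category.id_comp _).symm) ≪≫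
    (PreservesCokernel.iso (ab Λ X) _).symm

/-- `ℋ^{q+2}` is `R^{q+1} j_* j^*`. -/
noncomputable def isoSucc (q : ℕ) : (EtDual.locCoh j (q + 2)).obj ((ab Λ X).obj F) ≅
    (ab Λ X).obj ((EtModW.Rpush Λ j (q + 1)).obj ((res Λ j).obj F)) :=
  (locCohSuccIso j ((ab Λ X).obj F) q).symm ≪≫ (EtCoh.Rpush j (q + 1)).mapIso (pullAb j F) ≪≫
    ((rpushIso Λ j (q + 1)).app ((res Λ j).obj F)).symm

section Stalk

variable {Ω : Type u} [Field Ω] [IsSepClosed Ω] (ξ : Spec (CommRingCat.of Ω) ⟶ X)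

/-- The stalk of `ℋ^0`. -/
noncomputable def stalkZero :
    ((EtCoh.stalk ξ).obj ((EtDual.locCoh j 0).obj ((EtModD.forgetToAb Λ X).obj F)) : Type (u + 1)) ≃+
      ((EtModW.stalk Λ ξ).obj (kernel ((resPushAdj Λ j).unit.app F)) : Type (u + 1)) :=
  ((EtCoh.stalk ξ).mapIso (isoZero j F)).addCommGroupIsoToAddEquiv.trans
    (Etrest.ModStalk.stalkEquiv Λ ξ (kernel ((resPushAdj Λ j).unit.app F)))

/-- The stalk of `ℋ^1`. -/
noncomputable def stalkOne :
    ((EtCoh.stalk ξ).obj ((EtDual.locCoh j 1).obj ((EtModD.forgetToAb Λ X).obj F)) : Type (u + 1)) ≃+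
      ((EtModW.stalk Λ ξ).obj (cokernel ((resPushAdj Λ j).unit.app F)) : Type (u + 1)) :=
  ((EtCoh.stalk ξ).mapIso (isoOne j F)).addCommGroupIsoToAddEquiv.trans
    (Etrest.ModStalk.stalkEquiv Λ ξ (cokernel ((resPushAdj Λ j).unit.app F)))

/-- The stalk of `ℋ^{q+2}`. -/
noncomputable def stalkSucc (q : ℕ) :
    ((EtCoh.stalk ξ).obj ((EtDual.locCoh j (q + 2)).obj ((EtModD.forgetToAb Λ X).obj F)) : Type (u + 1)) ≃+
      ((EtModW.stalk Λ ξ).obj ((EtModW.Rpush Λ j (q + 1)).obj ((res Λ j).obj F)) : Type (u + 1)) :=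
  ((EtCoh.stalk ξ).mapIso (isoSucc j F q)).addCommGroupIsoToAddEquiv.trans
    (Etrest.ModStalk.stalkEquiv Λ ξ ((EtModW.Rpush Λ j (q + 1)).obj ((res Λ j).obj F)))

end Stalk

end Groth.Agent.Sga5.H177.HYMod
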