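import Groth.Agent.Sga5.H852.ShriekLoc
import Groth.Agent.EtpbcB.GammaRpush
import Groth.Agent.EtpbcA.SuppClosed
import Groth.Agent.Sga4h.LocCohLES

/-!
# Local cohomology groups at a closed point with separably closed residue field

`ξ : Spec Ω ⟶ X` a closed immersion, `Ω` separably closed, `j : U ⟶ X` the complement of its image:
`H^q_x(X, F)` is the stalk at `ξ` of `ℋ^q_x(F)`.
-/

set_option autoImplicit false
universe u
open CategoryTheory CategoryTheory.Limits AlgebraicGeometry Opposite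

namespace Groth.Agent.Sga5.H177.HYStalk

open Groth.Agent.EtpbcB.GammaRpush Groth.Agent.EtpbcB.SepClosedPoint
  Groth.Agent.EtpbcB.ExtRightDerived Groth.Agent.Sga4h.LocCohLES

variable {X U : Scheme.{u}} {Ω : Type u} [Field Ω] [IsSepClosed Ω]
  (ξ : Spec (CommRingCat.of Ω) ⟶ X) [IsClosedImmersion ξ] (j : U ⟶ X) [IsOpenImmersion j]
  (hU : (Set.range j)ᶜ ⊆ Set.range ξ)

omit [IsSepClosed Ω] in
include hU in
theorem isIso_unit (F : EtCoh.Ab X) :
    IsIso ((EtCoh.pullPushAdj ξ).unit.app ((EtDual.secSupp j).obj F)) := by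
  refine Groth.Agent.EtpbcA.SuppClosed.isIso_unit_of_supp ξ _ ?_
  refine Set.Subset.trans ?_ hU
  refine H852.ShriekLoc.supp_subset_of_isZero_pull j _ ?_
  exact (H852.ShriekLoc.isZero_pull_locCoh j F 0).of_iso
    ((EtCoh.pull j).mapIso ((locCohZeroIso j).app F).symm)

/-- `Γ_x(X, F)` is the stalk of the sheaf of sections supported at `x`. -/
noncomputable def gammaSuppIso : EtDual.gammaSupp j ≅ EtDual.secSupp j ⋙ EtCoh.stalk ξ :=
  have _h : ∀ F, IsIso ((Functor.whiskerLeft (EtDual.secSupp j) (EtCoh.pullPushAdj ξ).unit).app F) :=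
    fun F => isIso_unit ξ j hU F
  have : IsIso (Functor.whiskerLeft (EtDual.secSupp j) (EtCoh.pullPushAdj ξ).unit) :=
    NatIso.isIso_of_isIso_app _
  show EtDual.secSupp j ⋙ Γtop X ≅ _ from
    Functor.isoWhiskerRight (asIso (Functor.whiskerLeft (EtDual.secSupp j)
      (EtCoh.pullPushAdj ξ).unit)) (Γtop X) ≪≫
    Functor.isoWhiskerLeft (EtDual.secSupp j) (Functor.isoWhiskerLeft (EtCoh.pull ξ) (gammaPush ξ) ≪≫
      (stalkIsoGammaPull Ω ξ).symm)

include hU in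
/-- `H^q_x(X, F) ≅ ℋ^q_x(F)_ξ`. -/
theorem nonempty_iso (F : EtCoh.Ab X) (q : ℕ) :
    Nonempty ((EtDual.HY j q).obj F ≅ (EtCoh.stalk ξ).obj ((EtDual.locCoh j q).obj F)) :=
  ⟨(rightDerivedIso (gammaSuppIso ξ j hU) q).app F ≪≫
    rightDerivedCompExact (EtDual.secSupp j) (EtCoh.stalk ξ) q F⟩

include hU in
/-- `H^0_x(X, F)` is the kernel of `F_ξ ⟶ (j_* j^* F)_ξ`. -/
theorem nonempty_zero (F : EtCoh.Ab X) :
    Nonempty ((EtDual.HY j 0).obj F ≅ kernel ((EtCoh.stalk ξ).map (EtDual.unitApp j F))) := by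
  obtain ⟨e⟩ := nonempty_iso ξ j hU F 0
  exact ⟨e ≪≫ (EtCoh.stalk ξ).mapIso ((locCohZeroIso j).app F) ≪≫
    PreservesKernel.iso (EtCoh.stalk ξ) (EtDual.unitApp j F)⟩

include hU in
/-- `H^1_x(X, F)` is the cokernel of `F_ξ ⟶ (j_* j^* F)_ξ`. -/
theorem nonempty_one (F : EtCoh.Ab X) :
    Nonempty ((EtDual.HY j 1).obj F ≅ cokernel ((EtCoh.stalk ξ).map (EtDual.unitApp j F))) := by
  obtain ⟨e⟩ := nonempty_iso ξ j hU F 1
  let e1 : (EtDual.locCoh j 1).obj F ≅ cokernel (EtDual.unitApp j F) :=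
    (exact₀ j F).gIsCokernel.coconePointUniqueUpToIso (colimit.isColimit (parallelPair (EtDual.unitApp j F) 0))
  exact ⟨e ≪≫ (EtCoh.stalk ξ).mapIso e1 ≪≫ PreservesCokernel.iso (EtCoh.stalk ξ) (EtDual.unitApp j F)⟩

include hU in
/-- `H^{q+2}_x(X, F)` is the stalk of `R^{q+1} j_* j^* F`. -/
theorem nonempty_succ (F : EtCoh.Ab X) (q : ℕ) :
    Nonempty ((EtDual.HY j (q + 2)).obj F ≅
      (EtCoh.stalk ξ).obj ((EtCoh.Rpush j (q + 1)).obj ((EtCoh.pull j).obj F))) := by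
  obtain ⟨e⟩ := nonempty_iso ξ j hU F (q + 2)
  exact ⟨e ≪≫ (EtCoh.stalk ξ).mapIso (locCohSuccIso j F q).symm⟩

end Groth.Agent.Sga5.H177.HYStalk
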