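import Groth.Agent.Sga4h.X144Geo2
import Groth.Agent.Sga4h.X144Res
import Groth.Agent.Sga4h.GenLC657
import Groth.Agent.Sga4h.MuLocal2
import Groth.Agent.Sga4h.EtaleRes2
import Groth.Agent.Sga4B.PDKummer
import Groth.Agent.EtpbcA.Germ

/-!
# A good étale neighbourhood of a closed point of a regular curve

`exists_nbhd`: `x` a closed point with `dim 𝒪_{X,x} = 1` of a regular scheme of dimension at most one, `F`
constructible, `μ` a Kummer sheaf: an integral affine étale neighbourhood `V` with exactly one point `v` over `x`,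
on which `μ` is constant and such that `F` is locally constant on `V - v`.
-/

set_option autoImplicit false
universe u
open CategoryTheory CategoryTheory.Limits AlgebraicGeometry Opposite

namespace Groth.Agent.Sga5.H177.Nbd

open Groth.Agent.Sga4h Groth.Agent.Sga4h.ModRestr Groth.Agent.Etrest.ModAb
  Groth.Agent.Sga4h.EtaleRes
open Groth.Agent.EtpbcA.Germ (Fib fmap pt exists_lift pt_fmap hom_pt)

attribute [local instance] jCont

section Dense

variable {X : Scheme.{u}}

/-- The complement of a point with one dimensional local ring is dense. -/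
theorem dense_compl (x : X) (hx : ringKrullDim (X.presheaf.stalk x) = 1) : Dense ({x}ᶜ : Set X) := by
  intro y
  by_cases hy : y = x
  · subst hy
    rw [ringKrullDim_stalk_eq_coheight] at hx
    have h1 : ¬ IsMax y := by
      rw [← Order.coheight_eq_zero]
      intro h
      rw [h] at hx
      exact absurd hx (by simp)
    rw [isMax_iff_forall_not_lt] at h1
    push Not at h1
    obtain ⟨z, hz⟩ := h1
    have hzy : z ⤳ y := hz.1
    have hne : z ≠ y := by
      rintro rfl
      exact hz.2 le_rfl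
    exact closure_mono (Set.singleton_subset_iff.2 hne) (specializes_iff_mem_closure.1 hzy)
  · exact subset_closure hy

end Dense

section Mu

variable {n : ℕ} {X : Scheme.{u}}

/-- The structure sheaf `Λ_V`, with the instances found for a variable `Λ`. -/
noncomputable def one (Λ : Type (u + 1)) [CommRing Λ] (V : Scheme.{u}) : EtModW.Mod Λ V :=
  EtModW.constMod Λ V Λ

/-- The restriction of `Λ_V`. -/
noncomputable def resOne (Λ : Type (u + 1)) [CommRing Λ] {V W : Scheme.{u}} (g : W ⟶ V) [Etale g] :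
    (res Λ g).obj (one Λ V) ≅ one Λ W :=
  resConst Λ g Λ

/-- `μ` is étale-locally isomorphic to `Λ`. -/
def LocOne (Λ : Type (u + 1)) [CommRing Λ] {X : Scheme.{u}} (μ : EtModW.Mod Λ X) : Prop :=
  ∀ x : X, ∃ (V : Scheme.{u}) (p : V ⟶ X) (_ : Etale p) (v : V), p v = x ∧
      Nonempty ((res Λ p).obj μ ≅ one Λ V)

/-- Étale-locally a Kummer sheaf is constant. -/
theorem exists_local_mu (hn : IsUnit (n : Γ(X, ⊤))) (μ : EtModW.Mod (ULift.{u + 1} (ZMod n)) X)
    (hμ : EtModD.IsKummer n μ) : LocOne (ULift.{u + 1} (ZMod n)) μ := by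
  intro x
  obtain ⟨V, h, hh, v, hv, hn0, hnV, ⟨e⟩⟩ := MuLocal2.exists_local_iso n hn x
  obtain ⟨i⟩ := hμ
  refine ⟨V, h, hh, v, hv, ?_⟩
  exact Groth.Agent.Sga4B.PDKummer.nonempty_iso_of_ab
    (((pullIsoRestr h).app ((ab _ X).obj μ)).symm ≪≫ (EtCoh.pull h).mapIso i ≪≫
      EtaleRes2.pullMu h n ≪≫ e.symm ≪≫
      ((constIso (ULift.{u + 1} (ZMod n)) V).app
        (ModuleCat.of (ULift.{u + 1} (ZMod n)) (ULift.{u + 1} (ZMod n)))).symm)

end Mu

variable {Λ : Type (u + 1)} [CommRing Λ] {X U : Scheme.{u}} [IsLocallyNoetherian X]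
    (hreg : ∀ s : X, IsRegularLocalRing (X.presheaf.stalk s))
    (hdim : ∀ s : X, ringKrullDim (X.presheaf.stalk s) ≤ 1)
    {Ω : Type u} [Field Ω] [IsSepClosed Ω] (ξ : Spec (CommRingCat.of Ω) ⟶ X) (x : X)
    (hx : ∀ t, ξ t = x) (hx1 : ringKrullDim (X.presheaf.stalk x) = 1)
    (j : U ⟶ X) [IsOpenImmersion j] (hU : Set.range j.base = {x}ᶜ)

include hreg hdim hx hx1 hU in
theorem exists_nbhd [IsNoetherianRing Λ]
    (μ : EtModW.Mod Λ X) (hμ : LocOne Λ μ) (F : EtModW.Mod Λ X)
    (hF : EtModW.IsConstructible Λ F) :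
    ∃ (V : Scheme.{u}) (p : V ⟶ X) (_ : Etale p) (v : V) (_ : IsIntegral V) (_ : IsAffine V)
      (_ : IsNoetherian V) (ζ : Spec (CommRingCat.of Ω) ⟶ V), ζ ≫ p = ξ ∧ (∀ t, ζ t = v) ∧
      (∀ w : V, p w = x ↔ w = v) ∧
      Nonempty ((res Λ p).obj μ ≅ one Λ V) ∧
      EtModW.IsFTLocConst Λ ((res Λ (pullback.fst p j)).obj ((res Λ p).obj F)) := by
  obtain ⟨W₀, hW₀, hlc⟩ := GenLC657.exists_dense_ftlc F hF
  -- the dense open `W₀ ∩ U`
  let U₁ : X.Opens := W₀ ⊓ j.opensRange
  have hr : (j.opensRange : Set X) = {x}ᶜ := hU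
  have hU₁ : Dense (Set.range U₁.ι.base) := by
    have h1 : Set.range U₁.ι.base = (U₁ : Set X) := Scheme.Opens.range_ι U₁
    rw [h1]
    have h2 : Dense (j.opensRange : Set X) := by
      rw [hr]
      exact dense_compl x hx1
    exact hW₀.inter_of_isOpen_left h2 W₀.isOpen
  have hxU₁ : x ∉ Set.range U₁.ι.base := by
    have h1 : Set.range U₁.ι.base = (U₁ : Set X) := Scheme.Opens.range_ι U₁
    rw [h1]
    intro h
    have h2 : x ∈ (j.opensRange : Set X) := h.2
    rw [hr] at h2
    exact h2 rfl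
  obtain ⟨V₂, p₂, hp₂, v₂, hv₂, ⟨e₂⟩⟩ := hμ x
  obtain ⟨W, g, w, hw, hg, hint, haff, hnoe, hbad⟩ := X144Geo2.geo3 hreg hdim U₁.ι hU₁ x hxU₁
    (Scheme.Etale.mk p₂) v₂ hv₂
  have hWe : Etale W.hom := W.prop
  have hWx : W.hom w = x := by
    have e : g.left ≫ p₂ = W.hom := MorphismProperty.Over.w g
    have e2 : W.hom w = p₂ (g.left w) := by
      rw [← e]
      exact Scheme.Hom.comp_apply _ _ _
    rw [e2, hw]
    exact hv₂
  -- the lift of the geometric point
  let t0 : Fib ξ (EtCoh.top X) := Over.homMk ξ (Category.comp_id _)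
  have ht0 : pt ξ t0 = x := hx _
  obtain ⟨t, ht, ht'⟩ := exists_lift ξ
    (MorphismProperty.Over.homMk W.hom : W ⟶ EtCoh.top X) t0 w (hWx.trans ht0.symm)
  let ζ : Spec (CommRingCat.of Ω) ⟶ W.left := t.left
  have hζ : ζ ≫ W.hom = ξ := Over.w t
  refine ⟨W.left, W.hom, hWe, w, hint, haff, hnoe, ζ, hζ, fun s => ?_, fun w' => ?_, ?_, ?_⟩
  · rw [Subsingleton.elim s default]
    exact ht'
  · constructor
    · intro h
      exact (hbad w').1 (by rw [h]; exact hxU₁)
    · rintro rfl
      exact hWx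
  · obtain ⟨g', e⟩ : ∃ g' : W.left ⟶ V₂, g' ≫ p₂ = W.hom := ⟨g.left, MorphismProperty.Over.w g⟩
    have hge' : Etale (g' ≫ p₂) := by rw [e]; exact hWe
    have hge : Etale g' :=
      MorphismProperty.of_postcomp (W := @Etale) (W' := @Etale) g' p₂ hp₂ hge'
    exact ⟨(X144Res.resCongr _ e).symm.app μ ≪≫ (X144Res.resComp _ p₂ g').app μ ≪≫
      (res _ g').mapIso e₂ ≪≫ resOne _ g'⟩
  · let j' : pullback W.hom j ⟶ W.left := pullback.fst W.hom j
    have hrange : Set.range (j' ≫ W.hom) ⊆ Set.range W₀.ι := by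
      rintro _ ⟨y, rfl⟩
      have h1 : (j' ≫ W.hom) y ∈ Set.range j.base := by
        have h2 : (j' ≫ W.hom) y = j ((pullback.snd W.hom j) y) := by
          rw [show j' ≫ W.hom = pullback.snd W.hom j ≫ j from pullback.condition]
          exact Scheme.Hom.comp_apply _ _ _
        rw [h2]
        exact ⟨_, rfl⟩
      have h2 : (j' ≫ W.hom) y ∈ Set.range U₁.ι.base := by
        by_contra h3
        have h4 := (hbad (j' y)).1 (by
          rwa [Scheme.Hom.comp_apply] at h3)
        have h5 : (j' ≫ W.hom) y = x := by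
          rw [Scheme.Hom.comp_apply, h4]
          exact hWx
        rw [h5, hU] at h1
        exact h1 rfl
      have h3 : Set.range U₁.ι.base = (U₁ : Set X) := Scheme.Opens.range_ι U₁
      rw [h3] at h2
      have h4 : Set.range W₀.ι = (W₀ : Set X) := Scheme.Opens.range_ι W₀
      rw [h4]
      exact h2.1
    let q := IsOpenImmersion.lift W₀.ι (j' ≫ W.hom) hrange
    have hq : q ≫ W₀.ι = j' ≫ W.hom := IsOpenImmersion.lift_fac _ _ _
    have hj' : Etale (j' ≫ W.hom) := inferInstance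
    have hqe : Etale q := by
      have h1 : Etale (q ≫ W₀.ι) := by rw [hq]; exact hj'
      exact MorphismProperty.of_postcomp (W := @Etale) (W' := @Etale) q W₀.ι inferInstance h1
    refine Groth.Agent.Etcore.LPullComp.isFTLC_of_iso
      ((X144Res.resSquare _ W.hom j' W₀.ι q hq.symm).app F).symm (X144Res.ftlc_res _ q _ ?_)
    exact Groth.Agent.Etcore.LPullComp.isFTLC_of_iso ((X144Res.pullIsoRes _ W₀.ι).app F) hlc

end Groth.Agent.Sga5.H177.Nbd
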