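import Groth.Agent.Sga5.H177.Restr
import Groth.Agent.Sga5.H177.Nbd
import Groth.Agent.Sga5.H177.HYStalk
import Groth.Agent.Sga5.H177.HYMod

/-!
# Local duality at a closed point of a regular curve: reduction to a small étale neighbourhood

`LocDual`: the duality on a small étale neighbourhood; `of_locDual`: the statement S4177.
-/

set_option autoImplicit false
universe u
open CategoryTheory CategoryTheory.Limits AlgebraicGeometry Opposite

namespace Groth.Agent.Sga5.H177.Assemble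

open Groth.Agent.Sga4h Groth.Agent.Sga4h.ModRestr Groth.Agent.Etrest.ModAb
  Groth.Agent.Sga4h.EtaleRes Groth.Agent.Sga4h.HomSh Groth.Agent.Sga4h.HomExt

attribute [local instance] jCont

/-- Local duality at a point of a small étale neighbourhood. (A structure: in a `def` the nested proofs are
abstracted and the kernel has to compare `Functor.obj` of different terms.) -/
structure LocDualAt (Λ : Type (u + 1)) [CommRing Λ] (n : ℕ) {V U : Scheme.{u}} (j : U ⟶ V)
    [IsOpenImmersion j] {Ω : Type u} [Field Ω] [IsSepClosed Ω] (ξ : Spec (CommRingCat.of Ω) ⟶ V)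
    (F : EtModW.Mod Λ V) : Prop where
  zero : Nonempty (((EtModW.stalk Λ ξ).obj (kernel ((resPushAdj Λ j).unit.app F)) :
      Type (u + 1)) ≃+
    (((EtModW.stalk Λ ξ).obj (((homShF F).rightDerived 2).obj (Nbd.one Λ V)) :
      Type (u + 1)) →+ ZMod n))
  one : Nonempty (((EtModW.stalk Λ ξ).obj (cokernel ((resPushAdj Λ j).unit.app F)) :
      Type (u + 1)) ≃+
    (((EtModW.stalk Λ ξ).obj (((homShF F).rightDerived 1).obj (Nbd.one Λ V)) :
      Type (u + 1)) →+ ZMod n))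
  two : Nonempty (((EtModW.stalk Λ ξ).obj ((EtModW.Rpush Λ j 1).obj ((res Λ j).obj F)) :
      Type (u + 1)) ≃+
    (((EtModW.stalk Λ ξ).obj (((homShF F).rightDerived 0).obj (Nbd.one Λ V)) :
      Type (u + 1)) →+ ZMod n))
  vanish : ∀ q, 2 ≤ q → Subsingleton ((EtModW.stalk Λ ξ).obj
      ((EtModW.Rpush Λ j q).obj ((res Λ j).obj F)))

/-- Local duality on small étale neighbourhoods (used for `Λ = ℤ/n`, `n = ℓ ^ ν`). -/
structure LocDual (Λ : Type (u + 1)) [CommRing Λ] (n : ℕ) : Prop where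
  out : ∀ (V U : Scheme.{u}) [IsIntegral V] [IsAffine V] [IsNoetherian V]
    (_ : ∀ s : V, IsRegularLocalRing (V.presheaf.stalk s))
    (_ : ∀ s : V, ringKrullDim (V.presheaf.stalk s) ≤ 1)
    (_ : IsUnit (n : Γ(V, ⊤)))
    (j : U ⟶ V) [IsOpenImmersion j] (_ : Dense (Set.range j.base)) (v : V)
    (_ : ∀ w : V, w ∉ Set.range j.base ↔ w = v)
    (Ω : Type u) [Field Ω] [IsSepClosed Ω] (ξ : Spec (CommRingCat.of Ω) ⟶ V) (_ : ∀ t, ξ t = v)
    (F : EtModW.Mod Λ V) (_ : EtModW.IsConstructible Λ F)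
    (_ : EtModW.IsFTLocConst Λ ((res Λ j).obj F)), LocDualAt Λ n j ξ F

/-- Transport of a duality. -/
noncomputable def dualCongr {A B C D E : Type*} [AddCommGroup A] [AddCommGroup B] [AddCommGroup C]
    [AddCommGroup D] [AddCommGroup E] (a : A ≃+ B) (c : C ≃+ D) (e : B ≃+ (D →+ E)) :
    A ≃+ (C →+ E) :=
  a.trans (e.trans
    { toFun := fun φ => φ.comp c.toAddMonoidHom
      invFun := fun φ => φ.comp c.symm.toAddMonoidHom
      left_inv := fun φ => by ext; simp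
      right_inv := fun φ => by ext; simp
      map_add' := fun φ ψ => by ext; simp })

section Aux

variable {Λ : Type (u + 1)} [CommRing Λ]

/-- Transport of a duality between underlying groups of objects (the kernel must never compare two instance
paths on a stalk of a derived functor). -/
noncomputable def dualCongrM {n : ℕ} {A : Ab.{u + 1}} {B C D : ModuleCat.{u + 1} Λ}
    (a : (A : Type (u + 1)) ≃+ (B : Type (u + 1))) (c : (C : Type (u + 1)) ≃+ (D : Type (u + 1)))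
    (e : (B : Type (u + 1)) ≃+ ((D : Type (u + 1)) →+ ZMod n)) :
    (A : Type (u + 1)) ≃+ ((C : Type (u + 1)) →+ ZMod n) :=
  dualCongr a c e

/-- The stalk of `ℋ^m`, `2 ≤ m`. -/
theorem nonempty_stalkSucc {X U : Scheme.{u}} (j : U ⟶ X) [IsOpenImmersion j] (F : EtModW.Mod Λ X)
    {Ω : Type u} [Field Ω] [IsSepClosed Ω] (ξ : Spec (CommRingCat.of Ω) ⟶ X) (m r : ℕ)
    (hr : 1 ≤ r) (hm : m = r + 1) :
    Nonempty (((EtCoh.stalk ξ).obj ((EtDual.locCoh j m).obj
      ((EtModD.forgetToAb Λ X).obj F)) : Type (u + 1)) ≃+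
      ((EtModW.stalk Λ ξ).obj ((EtModW.Rpush Λ j r).obj ((res Λ j).obj F)) : Type (u + 1))) := by
  obtain ⟨q, hq⟩ : ∃ q, r = q + 1 := ⟨r - 1, by omega⟩
  have hm' : m = q + 2 := by omega
  subst hq
  clear hm
  subst hm'
  exact ⟨HYMod.stalkSucc j F ξ q⟩

variable {n : ℕ} {X U V U' : Scheme.{u}} {Ω : Type u} [Field Ω] [IsSepClosed Ω]
  (j : U ⟶ X) [IsOpenImmersion j]
  (p : V ⟶ X) [Etale p] (ζ : Spec (CommRingCat.of Ω) ⟶ V) (j' : U' ⟶ V) [IsOpenImmersion j']
  (p' : U' ⟶ U) (sq : IsPullback p' j' j p) [IsClosedImmersion (ζ ≫ p)]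
  (hU' : (Set.range j)ᶜ ⊆ Set.range (ζ ≫ p))

include sq hU' in
/-- `H^m_x(X, F)` on an étale neighbourhood. -/
theorem nonempty_HY (F : EtModW.Mod Λ X) (m : ℕ) :
    Nonempty (((EtDual.HY j m).obj ((EtModD.forgetToAb Λ X).obj F) : Type (u + 1)) ≃+
      ((EtCoh.stalk ζ).obj ((EtDual.locCoh j' m).obj
        ((EtModD.forgetToAb Λ V).obj ((res Λ p).obj F))) : Type (u + 1))) := by
  obtain ⟨e⟩ := HYStalk.nonempty_iso (ζ ≫ p) j hU' ((EtModD.forgetToAb Λ X).obj F) m
  exact ⟨e.addCommGroupIsoToAddEquiv.trans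
    (Restr.stalkLocCoh p ζ sq ((EtModD.forgetToAb Λ X).obj F) m).addCommGroupIsoToAddEquiv⟩

include sq hU' in
theorem aux (F μ : EtModW.Mod Λ X) [EtModD.HasSheafHom F] (e : (res Λ p).obj μ ≅ Nbd.one Λ V)
    (h : LocDualAt Λ n j' ζ ((res Λ p).obj F)) (i i' : ℕ) (hii : i + i' = 2) :
    (∀ m : ℕ, 3 ≤ m → Subsingleton ((EtDual.HY j m).obj ((EtModD.forgetToAb Λ X).obj F))) ∧
    Nonempty ((EtDual.HY j i).obj ((EtModD.forgetToAb Λ X).obj F) ≃+
      ((EtModW.stalk Λ (ζ ≫ p)).obj ((EtModD.extSheaf F i').obj μ) →+ ZMod n)) := by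
  obtain ⟨h0, h1, h2, h3⟩ := h
  constructor
  · intro m hm
    obtain ⟨e1⟩ := nonempty_HY j p ζ j' p' sq hU' F m
    obtain ⟨e2⟩ := nonempty_stalkSucc j' ((res Λ p).obj F) ζ m (m - 1) (by omega) (by omega)
    have := h3 (m - 1) (by omega)
    exact (e1.trans e2).toEquiv.subsingleton
  · obtain ⟨e1⟩ := nonempty_HY j p ζ j' p' sq hU' F i
    obtain ⟨e'⟩ := Restr.nonempty_stalkExt p ζ F μ i' (Nbd.one Λ V) e
    obtain rfl | rfl | rfl : i = 0 ∨ i = 1 ∨ i = 2 := by omega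
    · obtain rfl : i' = 2 := by omega
      exact ⟨dualCongrM (e1.trans (HYMod.stalkZero j' _ ζ)) e' h0.some⟩
    · obtain rfl : i' = 1 := by omega
      exact ⟨dualCongrM (e1.trans (HYMod.stalkOne j' _ ζ)) e' h1.some⟩
    · obtain rfl : i' = 0 := by omega
      obtain ⟨e2⟩ := nonempty_stalkSucc j' ((res Λ p).obj F) ζ 2 1 (by omega) (by omega)
      exact ⟨dualCongrM (e1.trans e2) e' h2.some⟩

end Aux

variable {Λ : Type (u + 1)} [CommRing Λ] {n : ℕ} {X U : Scheme.{u}} [IsLocallyNoetherian X]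
    (hreg : ∀ s : X, IsRegularLocalRing (X.presheaf.stalk s))
    (hdim : ∀ s : X, ringKrullDim (X.presheaf.stalk s) ≤ 1)
    (hn : IsUnit (n : Γ(X, ⊤)))
    {Ω : Type u} [Field Ω] [IsSepClosed Ω] (ξ : Spec (CommRingCat.of Ω) ⟶ X) [IsClosedImmersion ξ]
    (x : X) (hx : Set.range ξ.base = {x}) (hx1 : ringKrullDim (X.presheaf.stalk x) = 1)
    (j : U ⟶ X) [IsOpenImmersion j] (hU : Set.range j.base = {x}ᶜ)

include hreg hdim hn hx hx1 hU in
theorem of_locDual [IsNoetherianRing Λ] (hE : LocDual.{u} Λ n)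
    (μ : EtModW.Mod Λ X) (hμ : Nbd.LocOne Λ μ) (F : EtModW.Mod Λ X)
    (hF : EtModW.IsConstructible Λ F) [EtModD.HasSheafHom F]
    (i i' : ℕ) (hii : i + i' = 2) :
    (∀ m : ℕ, 3 ≤ m → Subsingleton ((EtDual.HY j m).obj
      ((EtModD.forgetToAb Λ X).obj F))) ∧
    Nonempty ((EtDual.HY j i).obj ((EtModD.forgetToAb Λ X).obj F) ≃+
      ((EtModW.stalk Λ ξ).obj ((EtModD.extSheaf F i').obj μ) →+ ZMod n)) := by
  have hξx : ∀ t, ξ t = x := fun t => by
    have h : ξ t ∈ ({x} : Set X) := hx ▸ ⟨t, rfl⟩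
    exact h
  have hU' : (Set.range j)ᶜ ⊆ Set.range ξ := by
    have h1 : Set.range j = {x}ᶜ := hU
    have h2 : Set.range ξ = {x} := hx
    rw [h1, h2, compl_compl]
  obtain ⟨V, p, hp, v, hint, haff, hnoe, ζ, hζ, hζv, hv, ⟨eμ⟩, hlc⟩ :=
    Nbd.exists_nbhd hreg hdim ξ x hξx hx1 j hU μ hμ F hF
  obtain ⟨hreg', hdim'⟩ := X144Geo2.geo2 hreg hdim p
  have hn' : IsUnit (n : Γ(V, ⊤)) := by
    have := hn.map (p.appTop).hom
    rwa [map_natCast] at this
  have hr : Set.range (pullback.fst p j).base = p.base ⁻¹' Set.range j.base :=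
    IsOpenImmersion.range_pullbackFst _ _
  have hd : Dense (Set.range (pullback.fst p j).base) := by
    rw [hr, hU]
    exact (Nbd.dense_compl x hx1).preimage p.isOpenMap
  have hbad : ∀ w : V, w ∉ Set.range (pullback.fst p j).base ↔ w = v := by
    intro w
    rw [hr, hU, ← hv w]
    change ¬ ¬ (p w = x) ↔ _
    rw [not_not]
  have hFV : EtModW.IsConstructible Λ ((res Λ p).obj F) :=
    Groth.Agent.Etcore.LCrit.isConstructible_of_iso ((X144Res.pullIsoRes _ p).app F)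
      (Groth.Agent.Etcore.LCrit.isConstructible_pull p F hF)
  have h := hE.out V (pullback p j) hreg' hdim' hn' (pullback.fst p j) hd v hbad Ω ζ hζv _ hFV hlc
  subst hζ
  exact aux j p ζ (pullback.fst p j) (pullback.snd p j) (IsPullback.of_hasPullback p j).flip hU' F μ eμ h
    i i' hii

end Groth.Agent.Sga5.H177.Assemble
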