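import Mathlib.GroupTheory.FiniteAbelian.Basic
import Mathlib.GroupTheory.SpecificGroups.Cyclic
import Mathlib.Data.ZMod.QuotientGroup
import Mathlib.Algebra.Module.ZMod

/-!
# Finite abelian `ℓ`-groups are determined by the orders of their `ℓ^k`-torsion

* `nonempty_addEquiv`: `A`, `B` finite, killed by `ℓ ^ ν`, `|A[ℓ^k]| = |B[ℓ^k]|` for all `k`: `A ≃+ B`;
* `card_quot`: `|A/d| = |A[d]|`;
* `nonempty_dual`: `A ≃+ (A →+ ZMod n)` for `A` finite killed by `n > 0`.
-/

set_option autoImplicit false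

open DirectSum

namespace Groth.Agent.Sga5.H177.FinIso

/-- Multiplication by `d`. -/
abbrev mul (d : ℕ) (A : Type*) [AddCommGroup A] : A →+ A := nsmulAddMonoidHom d

/-- Order of the `d`-torsion of a finite product of cyclic groups. -/
theorem card_ker_pi {ι : Type} [Fintype ι] (n : ι → ℕ) (hn : ∀ i, n i ≠ 0) (d : ℕ) :
    Nat.card (mul d (∀ i, ZMod (n i))).ker = ∏ i, (n i).gcd d := by
  have e : (mul d (∀ i, ZMod (n i))).ker ≃ ∀ i, (mul d (ZMod (n i))).ker :=
    { toFun := fun x i => ⟨x.1 i, by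
        have h := x.2
        rw [AddMonoidHom.mem_ker] at h ⊢
        exact congrFun h i⟩
      invFun := fun x => ⟨fun i => (x i).1, by
        rw [AddMonoidHom.mem_ker]
        funext i
        exact (AddMonoidHom.mem_ker).1 (x i).2⟩
      left_inv := fun x => rfl
      right_inv := fun x => rfl }
  rw [Nat.card_congr e, Nat.card_pi]
  refine Finset.prod_congr rfl fun i _ => ?_
  have : NeZero (n i) := ⟨hn i⟩
  rw [IsAddCyclic.card_nsmulAddMonoidHom_ker (G := ZMod (n i)) d, Nat.card_zmod]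

theorem card_ker_congr {A B : Type*} [AddCommGroup A] [AddCommGroup B] (e : A ≃+ B) (d : ℕ) :
    Nat.card (mul d A).ker = Nat.card (mul d B).ker := by
  refine Nat.card_congr
    { toFun := fun x => ⟨e x.1, by
        have h := x.2
        rw [AddMonoidHom.mem_ker] at h ⊢
        have h' : d • x.1 = 0 := h
        change d • e x.1 = 0
        rw [← map_nsmul, h', map_zero]⟩
      invFun := fun x => ⟨e.symm x.1, by
        have h := x.2
        rw [AddMonoidHom.mem_ker] at h ⊢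
        have h' : d • x.1 = 0 := h
        change d • e.symm x.1 = 0
        rw [← map_nsmul, h', map_zero]⟩
      left_inv := fun x => by ext; simp
      right_inv := fun x => by ext; simp }

/-- A finite group killed by `ℓ ^ ν` is a product of cyclic groups `ℤ/ℓ^e`, `1 ≤ e`. -/
theorem exists_pi (ℓ ν : ℕ) (hℓ : ℓ.Prime) (A : Type*) [AddCommGroup A] [Finite A]
    (hA : ∀ x : A, ℓ ^ ν • x = 0) :
    ∃ (ι : Type) (_ : Fintype ι) (e : ι → ℕ), (∀ i, 1 ≤ e i) ∧
      Nonempty (A ≃+ ∀ i, ZMod (ℓ ^ e i)) := by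
  classical
  obtain ⟨ι, hι, n, hn, ⟨f⟩⟩ := AddCommGroup.equiv_directSum_zmod_of_finite' A
  have g : (⨁ i, ZMod (n i)) ≃+ ∀ i, ZMod (n i) := DirectSum.addEquivProd (fun i => ZMod (n i))
  have hk : ∀ i, n i ∣ ℓ ^ ν := by
    intro i
    have h1 : ∀ y : (∀ i, ZMod (n i)), ℓ ^ ν • y = 0 := by
      intro y
      have h2 := hA ((f.trans g).symm y)
      have h3 := congrArg (f.trans g) h2
      rwa [map_nsmul, AddEquiv.apply_symm_apply, map_zero] at h3
    have h2 := congrFun (h1 (fun _ => 1)) i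
    have h3 : ((ℓ ^ ν : ℕ) : ZMod (n i)) = 0 := by
      simpa using h2
    exact (ZMod.natCast_eq_zero_iff _ _).1 h3
  choose e he1 he2 using fun i => (Nat.dvd_prime_pow hℓ).1 (hk i)
  refine ⟨ι, hι, e, fun i => ?_, ?_⟩
  · by_contra h
    have h0 : e i = 0 := by omega
    have := hn i
    rw [he2 i, h0, pow_zero] at this
    exact lt_irrefl _ this
  · have hne : n = fun i => ℓ ^ e i := funext he2
    subst hne
    exact ⟨f.trans g⟩

theorem sum_min_eq {ι κ : Type} [Fintype ι] [Fintype κ] (e : ι → ℕ) (f : κ → ℕ)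
    (h : ∀ k, ∑ i, min (e i) k = ∑ j, min (f j) k) (k : ℕ) (hk : 1 ≤ k) :
    Fintype.card {i // e i = k} = Fintype.card {j // f j = k} := by
  classical
  have key : ∀ {α : Type} [Fintype α] (a : α → ℕ),
      Fintype.card {i // a i = k} + ∑ i, min (a i) (k - 1) + ∑ i, min (a i) (k + 1) =
        ∑ i, min (a i) k + ∑ i, min (a i) k := by
    intro α _ a
    rw [Fintype.card_subtype, Finset.card_filter, ← Finset.sum_add_distrib,
      ← Finset.sum_add_distrib, ← Finset.sum_add_distrib]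
    refine Finset.sum_congr rfl fun i _ => ?_
    split_ifs with h1 <;> omega
  have h1 := key e
  have h2 := key f
  rw [h (k - 1), h (k + 1), h k] at h1
  omega

/-- Finite abelian `ℓ`-groups with the same number of `ℓ^k`-torsion elements for every `k` are isomorphic. -/
theorem nonempty_addEquiv (ℓ ν : ℕ) (hℓ : ℓ.Prime) (A : Type*) (B : Type*) [AddCommGroup A]
    [AddCommGroup B] [Finite A] [Finite B] (hA : ∀ x : A, ℓ ^ ν • x = 0)
    (hB : ∀ x : B, ℓ ^ ν • x = 0)
    (h : ∀ k, Nat.card (mul (ℓ ^ k) A).ker = Nat.card (mul (ℓ ^ k) B).ker) :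
    Nonempty (A ≃+ B) := by
  classical
  obtain ⟨ι, _, e, he, ⟨E⟩⟩ := exists_pi ℓ ν hℓ A hA
  obtain ⟨κ, _, f, hf, ⟨F⟩⟩ := exists_pi ℓ ν hℓ B hB
  have hpos : 1 < ℓ := hℓ.one_lt
  have key : ∀ {α : Type} [Fintype α] (a : α → ℕ) (k : ℕ),
      ∏ i, (ℓ ^ a i).gcd (ℓ ^ k) = ℓ ^ (∑ i, min (a i) k) := by
    intro α _ a k
    rw [← Finset.prod_pow_eq_pow_sum]
    refine Finset.prod_congr rfl fun i _ => ?_
    rcases le_total (a i) k with h | h
    · rw [min_eq_left h]
      exact Nat.gcd_eq_left (pow_dvd_pow ℓ h)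
    · rw [min_eq_right h]
      exact Nat.gcd_eq_right (pow_dvd_pow ℓ h)
  have h1 : ∀ k, ∑ i, min (e i) k = ∑ j, min (f j) k := by
    intro k
    have h2 := h k
    rw [card_ker_congr E, card_ker_congr F, card_ker_pi _ (fun i => (pow_pos (by omega) _).ne'),
      card_ker_pi _ (fun i => (pow_pos (by omega) _).ne'), key, key] at h2
    exact Nat.pow_right_injective hpos h2
  have h2 : ∀ k, Nonempty ({i // e i = k} ≃ {j // f j = k}) := by
    intro k
    rcases Nat.eq_zero_or_pos k with rfl | hk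
    · have : IsEmpty {i // e i = 0} := ⟨fun i => by have := he i.1; have := i.2; omega⟩
      have : IsEmpty {j // f j = 0} := ⟨fun i => by have := hf i.1; have := i.2; omega⟩
      exact ⟨Equiv.equivOfIsEmpty _ _⟩
    · exact ⟨Fintype.equivOfCardEq (sum_min_eq e f h1 k hk)⟩
  let σ : ι ≃ κ := Equiv.ofFiberEquiv (fun k => (h2 k).some)
  have hσ : ∀ i, f (σ i) = e i := fun i => Equiv.ofFiberEquiv_map _ i
  have hσ' : ∀ j, e (σ.symm j) = f j := fun j => by
    rw [← hσ, Equiv.apply_symm_apply]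
  let T : (∀ i, ZMod (ℓ ^ e i)) ≃+ ∀ j, ZMod (ℓ ^ f j) :=
    ({ Equiv.piCongrLeft' (fun i => ZMod (ℓ ^ e i)) σ with
        map_add' := fun x y => rfl } : (∀ i, ZMod (ℓ ^ e i)) ≃+
          ∀ j, ZMod (ℓ ^ e (σ.symm j))).trans
      (AddEquiv.piCongrRight fun j =>
        (ZMod.ringEquivCongr (congrArg (fun t => ℓ ^ t) (hσ' j))).toAddEquiv)
  exact ⟨E.trans (T.trans F.symm)⟩

/-- `|A / dA| = |A[d]|`. -/
theorem card_quot (A : Type*) [AddCommGroup A] [Finite A] (d : ℕ) :
    Nat.card (A ⧸ (mul d A).range) = Nat.card (mul d A).ker := by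
  have h1 := AddSubgroup.card_eq_card_quotient_mul_card_addSubgroup (mul d A).ker
  have h2 := AddSubgroup.card_eq_card_quotient_mul_card_addSubgroup (mul d A).range
  have h3 : Nat.card (A ⧸ (mul d A).ker) = Nat.card (mul d A).range :=
    Nat.card_congr (QuotientAddGroup.quotientKerEquivRange (mul d A)).toEquiv
  rw [h3] at h1
  rw [h1, mul_comm] at h2
  exact (Nat.eq_of_mul_eq_mul_right Nat.card_pos h2).symm

/-- The dual of a cyclic group. -/
theorem nonempty_dual_zmod (n m : ℕ) (hn : n ≠ 0) (h : m ∣ n) :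
    Nonempty ((ZMod m →+ ZMod n) ≃+ ZMod m) := by
  have hm : m ≠ 0 := by
    rintro rfl
    exact hn (Nat.eq_zero_of_zero_dvd h)
  have : NeZero n := ⟨hn⟩
  have : NeZero m := ⟨hm⟩
  -- `ZMod m →+ ZMod n` is the `m`-torsion of `ZMod n`
  let e1 : (ZMod m →+ ZMod n) ≃+ (mul m (ZMod n)).ker :=
    { toFun := fun φ => ⟨φ 1, by
        rw [AddMonoidHom.mem_ker]
        change m • φ 1 = 0
        rw [← map_nsmul]
        simp⟩
      invFun := fun x => ZMod.lift m ⟨(zmultiplesHom (ZMod n)) x.1, by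
        have h := x.2
        rw [AddMonoidHom.mem_ker] at h
        have h' : m • x.1 = 0 := h
        rw [zmultiplesHom_apply, natCast_zsmul, h']⟩
      left_inv := fun φ => by
        refine AddMonoidHom.ext fun y => ?_
        obtain ⟨z, rfl⟩ := ZMod.intCast_surjective y
        change (ZMod.lift m _) (z : ZMod m) = φ (z : ZMod m)
        rw [ZMod.lift_coe, zmultiplesHom_apply, ← map_zsmul, zsmul_one]
      right_inv := fun x => by
        apply Subtype.ext
        have h1 := ZMod.lift_coe m ⟨(zmultiplesHom (ZMod n)) x.1, by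
          have h := x.2
          rw [AddMonoidHom.mem_ker] at h
          have h' : m • x.1 = 0 := h
          rw [zmultiplesHom_apply, natCast_zsmul, h']⟩ 1
        rw [Int.cast_one] at h1
        change (ZMod.lift m _) 1 = x.1
        rw [h1]
        simp
      map_add' := fun φ ψ => by
        ext
        simp }
  have hc : Nat.card (mul m (ZMod n)).ker = m := by
    rw [IsAddCyclic.card_nsmulAddMonoidHom_ker (G := ZMod n) m, Nat.card_zmod]
    exact Nat.gcd_eq_right h
  have h2 : IsAddCyclic (mul m (ZMod n)).ker := inferInstance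
  exact ⟨e1.trans (zmodAddCyclicAddEquiv h2 |>.symm.trans
    (ZMod.ringEquivCongr hc).toAddEquiv)⟩

/-- `A ≃+ (A →+ ZMod n)` for a finite group killed by `n`. -/
theorem nonempty_dual (n : ℕ) (hn : n ≠ 0) (A : Type*) [AddCommGroup A] [Finite A]
    (hA : ∀ x : A, n • x = 0) : Nonempty ((A →+ ZMod n) ≃+ A) := by
  classical
  obtain ⟨ι, hι, m, hm, ⟨f⟩⟩ := AddCommGroup.equiv_directSum_zmod_of_finite' A
  have g : (⨁ i, ZMod (m i)) ≃+ ∀ i, ZMod (m i) := DirectSum.addEquivProd (fun i => ZMod (m i))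
  have hk : ∀ i, m i ∣ n := by
    intro i
    have h1 : ∀ y : (∀ i, ZMod (m i)), n • y = 0 := by
      intro y
      have h2 := hA ((f.trans g).symm y)
      have h3 := congrArg (f.trans g) h2
      rwa [map_nsmul, AddEquiv.apply_symm_apply, map_zero] at h3
    have h2 := congrFun (h1 (fun _ => 1)) i
    have h3 : ((n : ℕ) : ZMod (m i)) = 0 := by
      simpa using h2
    exact (ZMod.natCast_eq_zero_iff _ _).1 h3
  have D := fun i => nonempty_dual_zmod n (m i) hn (hk i)
  let E := f.trans g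
  let e1 : (A →+ ZMod n) ≃+ ((⨁ i, ZMod (m i)) →+ ZMod n) :=
    { toFun := fun φ => φ.comp f.symm.toAddMonoidHom
      invFun := fun φ => φ.comp f.toAddMonoidHom
      left_inv := fun φ => by ext; simp
      right_inv := fun φ => by
        apply AddMonoidHom.ext
        intro x
        simp
      map_add' := fun φ ψ => by
        apply AddMonoidHom.ext
        intro x
        simp }
  let e2 : ((⨁ i, ZMod (m i)) →+ ZMod n) ≃+ ∀ i, (ZMod (m i) →+ ZMod n) :=
    { toFun := fun φ i => φ.comp (DirectSum.of (fun i => ZMod (m i)) i)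
      invFun := fun ψ => DirectSum.toAddMonoid ψ
      left_inv := fun φ => by
        apply DirectSum.addHom_ext
        intro i y
        simp
      right_inv := fun ψ => by
        funext i
        apply AddMonoidHom.ext
        intro x
        simp
      map_add' := fun φ ψ => by
        funext i
        apply AddMonoidHom.ext
        intro x
        simp }
  exact ⟨e1.trans (e2.trans ((AddEquiv.piCongrRight fun i => (D i).some).trans E.symm))⟩

theorem card_ker_dvd (A : Type*) [AddCommGroup A] (m d : ℕ) (hA : ∀ x : A, m • x = 0)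
    (h : m ∣ d) : Nat.card (mul d A).ker = Nat.card A := by
  obtain ⟨c, rfl⟩ := h
  have h1 : (mul (m * c) A).ker = ⊤ := by
    rw [eq_top_iff]
    intro x _
    rw [AddMonoidHom.mem_ker]
    change (m * c) • x = 0
    rw [mul_comm, mul_nsmul, hA]
  rw [h1]
  exact Nat.card_congr AddSubgroup.topEquiv.toEquiv

/-- `A ≃+ Hom(B, ℤ/ℓ^ν)` if `|A / ℓ^k A| = |B[ℓ^k]|` for `k ≤ ν`. -/
theorem nonempty_equiv_dual (ℓ ν : ℕ) (hℓ : ℓ.Prime) (A : Type*) (B : Type*) [AddCommGroup A]
    [AddCommGroup B] [Finite A] [Finite B] (hA : ∀ x : A, ℓ ^ ν • x = 0)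
    (hB : ∀ x : B, ℓ ^ ν • x = 0)
    (h : ∀ k ≤ ν, Nat.card (A ⧸ (mul (ℓ ^ k) A).range) = Nat.card (mul (ℓ ^ k) B).ker) :
    Nonempty (A ≃+ (B →+ ZMod (ℓ ^ ν))) := by
  have hn : ℓ ^ ν ≠ 0 := (pow_pos hℓ.pos _).ne'
  obtain ⟨e⟩ := nonempty_dual (ℓ ^ ν) hn B hB
  obtain ⟨f⟩ := nonempty_addEquiv ℓ ν hℓ A B hA hB fun k => by
    rcases le_total k ν with hk | hk
    · rw [← card_quot A, h k hk]
    · have h1 := card_ker_dvd A (ℓ ^ ν) (ℓ ^ k) hA (pow_dvd_pow ℓ hk)
      have h2 := card_ker_dvd B (ℓ ^ ν) (ℓ ^ k) hB (pow_dvd_pow ℓ hk)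
      have h3 := h ν le_rfl
      rw [card_quot, card_ker_dvd A (ℓ ^ ν) (ℓ ^ ν) hA dvd_rfl,
        card_ker_dvd B (ℓ ^ ν) (ℓ ^ ν) hB dvd_rfl] at h3
      rw [h1, h2, h3]
  exact ⟨f.trans e.symm⟩

/-- `A ≃+ Hom(B, ℤ/ℓ^ν)` if `|A[ℓ^k]| = |B[ℓ^k]|` for `k ≤ ν`. -/
theorem nonempty_equiv_dual' (ℓ ν : ℕ) (hℓ : ℓ.Prime) (A : Type*) (B : Type*) [AddCommGroup A]
    [AddCommGroup B] [Finite A] [Finite B] (hA : ∀ x : A, ℓ ^ ν • x = 0)
    (hB : ∀ x : B, ℓ ^ ν • x = 0)
    (h : ∀ k ≤ ν, Nat.card (mul (ℓ ^ k) A).ker = Nat.card (mul (ℓ ^ k) B).ker) :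
    Nonempty (A ≃+ (B →+ ZMod (ℓ ^ ν))) :=
  nonempty_equiv_dual ℓ ν hℓ A B hA hB fun k hk => by rw [card_quot, h k hk]

end Groth.Agent.Sga5.H177.FinIso
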