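import Groth.Agent.Sga4h.X144Main
import Groth.Agent.EtpbcB.GeomPointIndep

/-!
# The local input of S3144 at an arbitrary geometric point
-/

set_option autoImplicit false
universe u
open CategoryTheory CategoryTheory.Limits AlgebraicGeometry Opposite

namespace Groth.Agent.Sga5.H177.PtAny

open Groth.Agent.Sga4h Groth.Agent.Sga4h.X144Core Groth.Agent.Etrest.ModAb

variable {Λ : Type (u + 1)} [CommRing Λ] {S U : Scheme.{u}}

/-- Stalks at geometric points with the same image. -/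
theorem nonempty_stalkEquiv {Ω Ω' : Type u} [Field Ω] [IsSepClosed Ω] [Field Ω'] [IsSepClosed Ω']
    (ξ : Spec (CommRingCat.of Ω) ⟶ S) (ξ' : Spec (CommRingCat.of Ω') ⟶ S)
    (h : ξ default = ξ' default) (G : EtModW.Mod Λ S) :
    Nonempty (((EtModW.stalk Λ ξ).obj G : Type (u + 1)) ≃+
      ((EtModW.stalk Λ ξ').obj G : Type (u + 1))) := by
  obtain ⟨e⟩ := EtpbcB.GeomPointIndep.nonempty_stalkIso ξ ξ' h
  exact ⟨(Etrest.ModStalk.stalkEquiv Λ ξ G).symm.trans
    ((e.app ((ab Λ S).obj G)).addCommGroupIsoToAddEquiv.trans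
      (Etrest.ModStalk.stalkEquiv Λ ξ' G))⟩

/-- `PtData` only depends on the point. -/
theorem ptData_of_eq (j : U ⟶ S) [IsOpenImmersion j] {Ω Ω' : Type u} [Field Ω] [IsSepClosed Ω]
    [Field Ω'] [IsSepClosed Ω'] (ξ : Spec (CommRingCat.of Ω) ⟶ S)
    (ξ' : Spec (CommRingCat.of Ω') ⟶ S) (h : ξ default = ξ' default) (hp : PtData Λ j ξ) :
    PtData Λ j ξ' where
  two B hB q hq := by
    obtain ⟨e⟩ := nonempty_stalkEquiv ξ ξ' h ((EtModW.Rpush Λ j q).obj B)
    have h1 := ModuleCat.subsingleton_of_isZero (hp.two B hB q hq)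
    have h2 := e.symm.toEquiv.subsingleton
    exact ModuleCat.isZero_of_subsingleton _
  fin0 B hB := by
    obtain ⟨e⟩ := nonempty_stalkEquiv ξ ξ' h ((EtModW.push Λ j).obj B)
    have := hp.fin0 B hB
    exact Finite.of_equiv _ e.toEquiv
  fin1 B hB := by
    obtain ⟨e⟩ := nonempty_stalkEquiv ξ ξ' h ((EtModW.Rpush Λ j 1).obj B)
    have := hp.fin1 B hB
    exact Finite.of_equiv _ e.toEquiv
  card B hB := by
    obtain ⟨e⟩ := nonempty_stalkEquiv ξ ξ' h ((EtModW.push Λ j).obj B)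
    obtain ⟨e'⟩ := nonempty_stalkEquiv ξ ξ' h ((EtModW.Rpush Λ j 1).obj B)
    rw [← Nat.card_congr e.toEquiv, ← Nat.card_congr e'.toEquiv, hp.card B hB]

/-- The local input of S3144 at any geometric point over a bad point. -/
theorem ptData (n : ℕ) (hΛ : GoodRing Λ) (hn' : (n : Λ) = 0) [IsLocallyNoetherian S]
    (hreg : ∀ s : S, IsRegularLocalRing (S.presheaf.stalk s))
    (hdim : ∀ s : S, ringKrullDim (S.presheaf.stalk s) ≤ 1)
    (hn : IsUnit (n : Γ(S, ⊤)))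
    (j : U ⟶ S) [IsOpenImmersion j] [QuasiCompact j] (hU : Dense (Set.range j.base)) (z : S)
    (hz : z ∉ Set.range j.base) {Ω : Type u} [Field Ω] [IsSepClosed Ω]
    (ξ : Spec (CommRingCat.of Ω) ⟶ S) (hξ : ∀ t, ξ t = z) : PtData Λ j ξ := by
  obtain ⟨Ω₀, _, _, ξ₀, hξ₀, h⟩ := X144Main.ptData n hΛ hn' hreg hdim hn j hU z hz
  exact ptData_of_eq j ξ₀ ξ ((hξ₀ _).trans (hξ _).symm) h

end Groth.Agent.Sga5.H177.PtAny
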