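import Groth.Agent.Sga4h.EulerSpec
import Groth.Agent.Sga4h.ModRestr
import Groth.Agent.Sga4h.LocCohLocal
import Groth.Agent.Sga4h.HomExt
import Groth.Agent.Sga5.H177.HYMod

/-!
# Stalks and étale localization

For `p : V ⟶ X` étale and `ξ : Spec Ω ⟶ V` a geometric point:
* `stalkRes`: the stalk of `G` at `ξ ≫ p` is the stalk of `p^* G` at `ξ`;
* `stalkLocCoh`: the same for the local cohomology sheaves;
* `stalkExt`: the same for local Ext sheaves.
-/

set_option autoImplicit false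
universe u
open CategoryTheory CategoryTheory.Limits AlgebraicGeometry Opposite

namespace Groth.Agent.Sga5.H177.Restr

open Groth.Agent.Sga4h.LocCohLES Groth.Agent.Sga4h.ModRestr Groth.Agent.Etrest.ModAb
  Groth.Agent.Sga4h.EtaleRes Groth.Agent.Sga4h.HomSh Groth.Agent.Sga4h.HomExt

attribute [local instance] jCont

variable {Λ : Type (u + 1)} [CommRing Λ] {X V : Scheme.{u}} (p : V ⟶ X) [Etale p]
  {Ω : Type u} [Field Ω] [IsSepClosed Ω] (ξ : Spec (CommRingCat.of Ω) ⟶ V)

/-- The stalk of the restriction (abelian sheaves). -/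
noncomputable def stalkRestr (G : EtCoh.Ab X) :
    (EtCoh.stalk (ξ ≫ p)).obj G ≅ (EtCoh.stalk ξ).obj ((EtShriek.restrAlong p).obj G) :=
  (Etbase.StalkPull.stalkPullIso p ξ).app G ≪≫ (EtCoh.stalk ξ).mapIso ((pullIsoRestr p).app G)

/-- The stalk of the restriction. -/
noncomputable def stalkRes (G : EtModW.Mod Λ X) :
    ((EtModW.stalk Λ (ξ ≫ p)).obj G : Type (u + 1)) ≃+
      ((EtModW.stalk Λ ξ).obj ((res Λ p).obj G) : Type (u + 1)) :=
  (Etrest.ModStalk.stalkEquiv Λ (ξ ≫ p) G).symm.trans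
    ((stalkRestr p ξ ((ab Λ X).obj G)).addCommGroupIsoToAddEquiv.trans
      (Etrest.ModStalk.stalkEquiv Λ ξ ((res Λ p).obj G)))

/-- The stalk of the local cohomology sheaves. -/
noncomputable def stalkLocCoh {U U' : Scheme.{u}} {j : U ⟶ X} {j' : U' ⟶ V} {p' : U' ⟶ U}
    [Etale j] [Etale j'] (sq : IsPullback p' j' j p) (F : EtCoh.Ab X) (m : ℕ) :
    (EtCoh.stalk (ξ ≫ p)).obj ((EtDual.locCoh j m).obj F) ≅
      (EtCoh.stalk ξ).obj ((EtDual.locCoh j' m).obj ((EtShriek.restrAlong p).obj F)) :=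
  stalkRestr p ξ ((EtDual.locCoh j m).obj F) ≪≫
    (EtCoh.stalk ξ).mapIso ((Sga4h.LocCohLocal.locCohRestrIso sq m).app F)

/-- Isomorphic sheaves have isomorphic stalks. -/
noncomputable def stalkMapEquiv {A B : EtModW.Mod Λ V} (e : A ≅ B) :
    ((EtModW.stalk Λ ξ).obj A : Type (u + 1)) ≃+ ((EtModW.stalk Λ ξ).obj B : Type (u + 1)) :=
  ((EtModW.stalk Λ ξ).mapIso e).toLinearEquiv.toAddEquiv

/-- The stalk of a sheaf with given restriction. -/
noncomputable def stalkOfRes {A : EtModW.Mod Λ X} {B : EtModW.Mod Λ V} (e : (res Λ p).obj A ≅ B) :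
    ((EtModW.stalk Λ (ξ ≫ p)).obj A : Type (u + 1)) ≃+
      ((EtModW.stalk Λ ξ).obj B : Type (u + 1)) :=
  (stalkRes p ξ A).trans (stalkMapEquiv ξ e)

/-- Restriction of local Ext sheaves. -/
theorem nonempty_extIso (F G : EtModW.Mod Λ X) (q : ℕ) :
    Nonempty ((res Λ p).obj (((homShF F).rightDerived q).obj G) ≅
      ((homShF ((res Λ p).obj F)).rightDerived q).obj ((res Λ p).obj G)) := by
  have e := (resExt p F q).app G
  exact ⟨e⟩

/-- Restriction of local Ext sheaves. -/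
theorem nonempty_extIso₁ (F G : EtModW.Mod Λ X) [EtModD.HasSheafHom F] (q : ℕ) :
    Nonempty ((EtModD.extSheaf F q).obj G ≅ ((homShF F).rightDerived q).obj G) := by
  have e := (extSheafIso F q).app G
  exact ⟨e⟩

/-- Restriction of local Ext sheaves with values in a sheaf of given restriction. -/
theorem nonempty_extIso' (F G : EtModW.Mod Λ X) [EtModD.HasSheafHom F] (q : ℕ) (H : EtModW.Mod Λ V)
    (e : (res Λ p).obj G ≅ H) :
    Nonempty ((res Λ p).obj ((EtModD.extSheaf F q).obj G) ≅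
      ((homShF ((res Λ p).obj F)).rightDerived q).obj H) := by
  obtain ⟨e1⟩ := nonempty_extIso₁ F G q
  obtain ⟨e2⟩ := nonempty_extIso p F G q
  have e3 := ((homShF ((res Λ p).obj F)).rightDerived q).mapIso e
  exact ⟨(res Λ p).mapIso e1 ≪≫ e2 ≪≫ e3⟩

/-- The stalk of the local Ext sheaves with values in a sheaf of given restriction. -/
theorem nonempty_stalkExt (F G : EtModW.Mod Λ X) [EtModD.HasSheafHom F] (q : ℕ) (H : EtModW.Mod Λ V)
    (e : (res Λ p).obj G ≅ H) :
    Nonempty (((EtModW.stalk Λ (ξ ≫ p)).obj ((EtModD.extSheaf F q).obj G) : Type (u + 1)) ≃+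
      ((EtModW.stalk Λ ξ).obj (((homShF ((res Λ p).obj F)).rightDerived q).obj H) :
        Type (u + 1))) := by
  obtain ⟨e1⟩ := nonempty_extIso' p F G q H e
  exact ⟨stalkOfRes p ξ e1⟩

end Groth.Agent.Sga5.H177.Restr
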